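import Mathlib

/-! Galois action on roots of unity inside `E = algebraicClosure ℚ ℂ`, in a form usable for character values. -/

set_option autoImplicit false

namespace Cfsg.Agent.CharLib.L

open Polynomial

/-- the field of algebraic numbers inside ℂ -/
noncomputable abbrev QBar : IntermediateField ℚ ℂ := algebraicClosure ℚ ℂ

theorem mem_QBar_of_pow_eq_one {z : ℂ} {n : ℕ} (hn : 0 < n) (h : z ^ n = 1) : z ∈ QBar := by
  rw [mem_algebraicClosure_iff']
  refine IsIntegral.of_pow hn ?_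
  rw [h]; exact isIntegral_one

theorem QBar_splits (s : QBar) :
    IsIntegral ℚ s ∧ ((minpoly ℚ s).map (algebraMap ℚ ℂ)).Splits := by
  haveI : Algebra.IsAlgebraic ℚ QBar := algebraicClosure.isAlgebraic ℚ ℂ
  exact ⟨(Algebra.IsAlgebraic.isAlgebraic s).isIntegral, IsAlgClosed.splits _⟩

/-- (H1) every embedding acts on the `n`-th roots of unity as a power map with exponent prime to `n` -/
theorem exists_pow_of_algHom (n : ℕ) (hn : 0 < n) (φ : QBar →ₐ[ℚ] ℂ) :
    ∃ m : ℕ, m.Coprime n ∧ ∀ ω : QBar, ω ^ n = 1 → φ ω = (ω : ℂ) ^ m := by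
  haveI : NeZero n := ⟨hn.ne'⟩
  have hζ := Complex.isPrimitiveRoot_exp n hn.ne'
  set z : ℂ := Complex.exp (2 * Real.pi * Complex.I / n) with hz
  let ζ : QBar := ⟨z, mem_QBar_of_pow_eq_one hn hζ.pow_eq_one⟩
  have hζE : IsPrimitiveRoot ζ n :=
    IsPrimitiveRoot.of_map_of_injective (f := algebraMap QBar ℂ) hζ (algebraMap QBar ℂ).injective
  have hφζ : IsPrimitiveRoot (φ ζ) n := hζE.map_of_injective φ.injective
  obtain ⟨m, _, hm, hmz⟩ := (hζ.isPrimitiveRoot_iff).mp hφζ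
  refine ⟨m, hm, fun ω hω => ?_⟩
  obtain ⟨k, _, rfl⟩ := hζE.eq_pow_of_pow_eq_one hω
  rw [map_pow, ← hmz]
  change (z ^ m) ^ k = (z ^ k) ^ m
  rw [← pow_mul, ← pow_mul, mul_comm]

/-- (H2) every exponent prime to `n` is realised by an embedding -/
theorem exists_algHom_of_coprime (n : ℕ) (hn : 0 < n) (m : ℕ) (hm : m.Coprime n) :
    ∃ φ : QBar →ₐ[ℚ] ℂ, ∀ ω : QBar, ω ^ n = 1 → φ ω = (ω : ℂ) ^ m := by
  haveI : NeZero n := ⟨hn.ne'⟩
  have hζ := Complex.isPrimitiveRoot_exp n hn.ne'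
  set z : ℂ := Complex.exp (2 * Real.pi * Complex.I / n) with hz
  let ζ : QBar := ⟨z, mem_QBar_of_pow_eq_one hn hζ.pow_eq_one⟩
  have hζE : IsPrimitiveRoot ζ n :=
    IsPrimitiveRoot.of_map_of_injective (f := algebraMap QBar ℂ) hζ (algebraMap QBar ℂ).injective
  have h1 : minpoly ℚ ζ = minpoly ℚ (z ^ m) := by
    rw [← cyclotomic_eq_minpoly_rat hζE hn, ← cyclotomic_eq_minpoly_rat (hζ.pow_of_coprime m hm) hn]
  have h2 : aeval (z ^ m) (minpoly ℚ ζ) = 0 := by rw [h1]; exact minpoly.aeval _ _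
  obtain ⟨φ, hφ⟩ := IntermediateField.exists_algHom_of_splits_of_aeval QBar_splits h2
  refine ⟨φ, fun ω hω => ?_⟩
  obtain ⟨k, _, rfl⟩ := hζE.eq_pow_of_pow_eq_one hω
  rw [map_pow, hφ]
  change (z ^ m) ^ k = (z ^ k) ^ m
  rw [← pow_mul, ← pow_mul, mul_comm]

/-- (H3) an algebraic number fixed by all embeddings is rational -/
theorem exists_rat_of_fixed (y : QBar) (h : ∀ φ : QBar →ₐ[ℚ] ℂ, φ y = (y : ℂ)) :
    ∃ q : ℚ, (y : ℂ) = (q : ℂ) := by
  classical
  have hint : IsIntegral ℚ y := (QBar_splits y).1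
  have hsep : (minpoly ℚ y).Separable := (minpoly.irreducible hint).separable
  have hcard := card_rootSet_eq_natDegree (K := ℂ) hsep (QBar_splits y).2
  have hsub : (minpoly ℚ y).rootSet ℂ ⊆ {(y : ℂ)} := by
    intro β hβ
    rw [mem_rootSet] at hβ
    obtain ⟨φ, hφ⟩ := IntermediateField.exists_algHom_of_splits_of_aeval QBar_splits hβ.2
    rw [Set.mem_singleton_iff, ← hφ, h φ]
  have hle : (minpoly ℚ y).natDegree ≤ 1 := by
    rw [← hcard, ← Nat.card_eq_fintype_card, Nat.card_coe_set_eq]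
    calc ((minpoly ℚ y).rootSet ℂ).ncard ≤ ({(y : ℂ)} : Set ℂ).ncard :=
          Set.ncard_le_ncard hsub (Set.finite_singleton _)
      _ = 1 := Set.ncard_singleton _
  have hpos : 0 < (minpoly ℚ y).natDegree := minpoly.natDegree_pos hint
  have h1 : (minpoly ℚ y).natDegree = 1 := by omega
  obtain ⟨q, hq⟩ := minpoly.natDegree_eq_one_iff.mp h1
  refine ⟨q, ?_⟩
  rw [← hq]; simp

/-- an algebraic integer that is rational is an integer -/
theorem exists_int_of_isIntegral_of_rat {x : ℂ} (hx : IsIntegral ℤ x) {q : ℚ} (hq : x = (q : ℂ)) :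
    ∃ k : ℤ, x = (k : ℂ) := by
  have h1 : x = algebraMap ℚ ℂ q := by rw [hq]; simp
  rw [h1, isIntegral_algebraMap_iff (algebraMap ℚ ℂ).injective] at hx
  obtain ⟨k, hk⟩ := IsIntegrallyClosed.isIntegral_iff.mp hx
  refine ⟨k, ?_⟩
  rw [hq, ← hk]; simp

end Cfsg.Agent.CharLib.L
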