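import Mathlib
import Cfsg.Agent.CharLib.L.Galois
import Cfsg.Agent.CharLib.L.Linear
import Cfsg.Agent.S0136

/-! Galois action on character values; rationality criterion; Burnside's theorem on zeros. -/

set_option autoImplicit false

namespace Cfsg.Agent.CharLib.L

open Module Cfsg Cfsg.Agent.CharLib

variable {G : Type*} [Group G] [Finite G]
variable {V : Type*} [AddCommGroup V] [Module ℂ V] [FiniteDimensional ℂ V]

theorem character_mem_QBar (ρ : Representation ℂ G V) (g : G) : ρ.character g ∈ QBar := by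
  rw [mem_algebraicClosure_iff']
  exact (isIntegral_character ρ g).tower_top

/-- an embedding acting as `ω ↦ ω ^ m` on `n`-th roots of unity sends `χ(g)` to `χ(g ^ m)` -/
theorem algHom_character (ρ : Representation ℂ G V) (g : G) (n : ℕ) (hn0 : 0 < n) (hn : g ^ n = 1)
    (φ : QBar →ₐ[ℚ] ℂ) (m : ℕ) (hφ : ∀ ω : QBar, ω ^ n = 1 → φ ω = (ω : ℂ) ^ m)
    (y : QBar) (hy : (y : ℂ) = ρ.character g) : φ y = ρ.character (g ^ m) := by
  classical
  obtain ⟨b, μ, hμ, hb, hc⟩ := character_eq_sum_eigen ρ g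
  have hμn : ∀ i, μ i ^ n = 1 := by
    intro i
    obtain ⟨k, hk⟩ := orderOf_dvd_of_pow_eq_one hn
    rw [hk, pow_mul, hμ i, one_pow]
  let μ' : Fin (finrank ℂ V) → QBar := fun i => ⟨μ i, mem_QBar_of_pow_eq_one hn0 (hμn i)⟩
  have hy' : y = ∑ i, μ' i := by
    apply Subtype.ext
    rw [hy, hc]
    simp [μ']
  have h2 : ρ.character (g ^ m) = ∑ i, μ i ^ m :=
    trace_eq_sum_of_eigenbasis (ρ (g ^ m)) b (fun i => μ i ^ m) (fun i => rep_pow_eigen ρ g b μ hb m i)
  rw [hy', map_sum, h2]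
  refine Finset.sum_congr rfl fun i _ => ?_
  rw [hφ (μ' i) (by apply Subtype.ext; simpa [μ'] using hμn i)]

theorem rational_iff_conj_pow :
    (∀ χ : IrrCharacter G, ∀ g : G, ∃ q : ℚ, (χ : G → ℂ) g = (q : ℂ)) ↔
      ∀ m : ℕ, m.Coprime (Nat.card G) → ∀ g : G, IsConj g (g ^ m) := by
  have hn0 : 0 < Nat.card G := Nat.card_pos
  constructor
  · intro h m hm g
    rw [Cfsg.Agent.S0136.result]
    intro χ
    obtain ⟨q, hq⟩ := h χ g
    obtain ⟨k, ρ, _, hch⟩ := χ.2
    obtain ⟨φ, hφ⟩ := exists_algHom_of_coprime (Nat.card G) hn0 m hm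
    have h1 := algHom_character ρ g (Nat.card G) hn0 (pow_card_eq_one') φ m hφ
      (algebraMap ℚ QBar q) (by rw [hch, hq]; simp)
    rw [AlgHom.commutes] at h1
    rw [← hch, ← h1, hch, hq]; simp
  · intro h χ g
    obtain ⟨k, ρ, _, hch⟩ := χ.2
    rw [← hch]
    refine exists_rat_of_fixed ⟨ρ.character g, character_mem_QBar ρ g⟩ fun φ => ?_
    obtain ⟨m, hm, hφ⟩ := exists_pow_of_algHom (Nat.card G) hn0 φ
    rw [algHom_character ρ g (Nat.card G) hn0 (pow_card_eq_one') φ m hφ _ rfl]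
    obtain ⟨c, hc⟩ := isConj_iff.mp (h m hm g)
    rw [← hc, ρ.char_conj]

end Cfsg.Agent.CharLib.L
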