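import Mathlib
import Cfsg.Agent.CharLib.L.GaloisChar

/-! Burnside: a nonlinear irreducible character vanishes somewhere. -/

set_option autoImplicit false

namespace Cfsg.Agent.CharLib.L

open Module Cfsg Cfsg.Agent.CharLib

/-- if positive reals have product at least one, their sum is at least their number -/
theorem card_le_sum_of_one_le_prod {ι : Type*} [Fintype ι] (z : ι → ℝ) (hz : ∀ i, 0 < z i)
    (hprod : 1 ≤ ∏ i, z i) : (Fintype.card ι : ℝ) ≤ ∑ i, z i := by
  have h1 : ∀ i, Real.log (z i) ≤ z i - 1 := fun i => Real.log_le_sub_one_of_pos (hz i)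
  have h2 : ∑ i, Real.log (z i) = Real.log (∏ i, z i) :=
    (Real.log_prod (fun i _ => (hz i).ne')).symm
  have h3 : 0 ≤ Real.log (∏ i, z i) := Real.log_nonneg hprod
  have h4 : ∑ i, Real.log (z i) ≤ ∑ i, (z i - 1) := Finset.sum_le_sum fun i _ => h1 i
  rw [Finset.sum_sub_distrib] at h4
  simp only [Finset.sum_const, Finset.card_univ, nsmul_eq_mul, mul_one] at h4
  linarith

variable {G : Type*} [Group G] [Finite G]
variable {V : Type*} [AddCommGroup V] [Module ℂ V] [FiniteDimensional ℂ V]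

theorem card_units_le_sum_normSq (ρ : Representation ℂ G V) (g : G)
    (hne : ∀ x : G, ρ.character x ≠ 0) :
    (Fintype.card (ZMod (Nat.card G))ˣ : ℝ) ≤
      ∑ u : (ZMod (Nat.card G))ˣ, Complex.normSq (ρ.character (g ^ (u : ZMod (Nat.card G)).val)) := by
  classical
  set n := Nat.card G with hn
  have hn0 : 0 < n := Nat.card_pos
  haveI : NeZero n := ⟨hn0.ne'⟩
  have hgn : ∀ x : G, x ^ n = 1 := fun x => pow_card_eq_one'
  have hmod : ∀ (x : G) (k : ℕ), x ^ (k % n) = x ^ k := fun x k => pow_mod_natCard x k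
  refine card_le_sum_of_one_le_prod _ (fun u => Complex.normSq_pos.mpr (hne _)) ?_
  let y : (ZMod n)ˣ → QBar := fun u => ⟨ρ.character (g ^ (u : ZMod n).val), character_mem_QBar ρ _⟩
  let P : QBar := ∏ u, y u
  have hPc : (P : ℂ) = ∏ u : (ZMod n)ˣ, ρ.character (g ^ (u : ZMod n).val) := by
    simp [P, y]
  have hfix : ∀ φ : QBar →ₐ[ℚ] ℂ, φ P = (P : ℂ) := by
    intro φ
    obtain ⟨m, hm, hφ⟩ := exists_pow_of_algHom n hn0 φ
    let um : (ZMod n)ˣ := ZMod.unitOfCoprime m hm
    have h1 : ∀ u : (ZMod n)ˣ, φ (y u) = ρ.character (g ^ ((u * um : (ZMod n)ˣ) : ZMod n).val) := by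
      intro u
      rw [algHom_character ρ (g ^ (u : ZMod n).val) n hn0
        (hgn _) φ m hφ (y u) rfl]
      congr 1
      rw [← pow_mul, Units.val_mul, ZMod.val_mul, ZMod.coe_unitOfCoprime, ZMod.val_natCast, hmod]
      rw [← hmod g ((u : ZMod n).val * m), ← hmod g ((u : ZMod n).val * (m % n)), Nat.mul_mod,
        Nat.mul_mod (u : ZMod n).val (m % n), Nat.mod_mod]
    rw [hPc]
    simp only [P, map_prod, h1]
    exact Fintype.prod_equiv (Equiv.mulRight um) _ _ (fun u => rfl)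
  obtain ⟨q, hq⟩ := exists_rat_of_fixed P hfix
  have hint : IsIntegral ℤ (P : ℂ) := by
    rw [hPc]
    exact IsIntegral.prod _ fun u _ => isIntegral_character ρ _
  obtain ⟨k, hk⟩ := exists_int_of_isIntegral_of_rat hint hq
  have hPne : (P : ℂ) ≠ 0 := by
    rw [hPc]
    exact Finset.prod_ne_zero_iff.mpr fun u _ => hne _
  have hk0 : k ≠ 0 := by
    rintro rfl
    apply hPne; rw [hk]; simp
  have hns : Complex.normSq (P : ℂ) = ∏ u : (ZMod n)ˣ, Complex.normSq (ρ.character (g ^ (u : ZMod n).val)) := by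
    rw [hPc, map_prod]
  rw [← hns, hk, Complex.normSq_intCast]
  have : (1 : ℤ) ≤ k * k := by
    have := Int.one_le_abs hk0
    have h2 : k * k = |k| * |k| := (abs_mul_abs_self k).symm
    rw [h2]; nlinarith
  exact_mod_cast this

theorem exists_character_eq_zero (ρ : Representation ℂ G V) [hirr : ρ.IsIrreducible]
    (hdeg : 1 < finrank ℂ V) : ∃ g : G, ρ.character g = 0 := by
  classical
  by_contra hcon
  push Not at hcon
  haveI := Fintype.ofFinite G
  set n := Nat.card G with hn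
  have hn0 : 0 < n := Nat.card_pos
  haveI : NeZero n := ⟨hn0.ne'⟩
  set χ := ρ.character with hχ
  have hG : (Nat.card G : ℂ) ≠ 0 := by exact_mod_cast Nat.card_pos.ne'
  have hnG : classInner χ χ = 1 := classInner_irr_self (isIrrCharacter_char ρ hirr)
  have hsG : ∑ g : G, Complex.normSq (χ g) = (n : ℝ) := by
    have h1 : ∑ g : G, χ g * (starRingEnd ℂ) (χ g) = (Nat.card G : ℂ) := by
      rw [classInner] at hnG
      field_simp at hnG
      exact hnG
    have h2 : ((∑ g : G, Complex.normSq (χ g) : ℝ) : ℂ) = ((Nat.card G : ℝ) : ℂ) := by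
      push_cast
      rw [← h1]
      exact Finset.sum_congr rfl fun g _ => (Complex.mul_conj _).symm
    exact_mod_cast h2
  -- double sum
  have hA : ∑ u : (ZMod n)ˣ, ∑ g : G, Complex.normSq (χ (g ^ (u : ZMod n).val))
      = (Fintype.card (ZMod n)ˣ : ℝ) * n := by
    have : ∀ u : (ZMod n)ˣ, ∑ g : G, Complex.normSq (χ (g ^ (u : ZMod n).val)) = (n : ℝ) := by
      intro u
      rw [← hsG]
      have hc : (Nat.card G).Coprime (u : ZMod n).val := (ZMod.val_coe_unit_coprime u).symm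
      exact Fintype.sum_equiv (powCoprime hc) _ _ (fun g => rfl)
    simp only [this, Finset.sum_const, Finset.card_univ, nsmul_eq_mul]
  rw [Finset.sum_comm, ← Finset.add_sum_erase Finset.univ _ (Finset.mem_univ (1 : G))] at hA
  have h1 : ∑ u : (ZMod n)ˣ, Complex.normSq (χ ((1 : G) ^ (u : ZMod n).val))
      = (Fintype.card (ZMod n)ˣ : ℝ) * ((finrank ℂ V : ℝ) * (finrank ℂ V : ℝ)) := by
    simp only [one_pow, hχ, Representation.char_one, Complex.normSq_natCast, Finset.sum_const,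
      Finset.card_univ, nsmul_eq_mul]
  have h2 : (Fintype.card (ZMod n)ˣ : ℝ) * ((n : ℝ) - 1) ≤
      ∑ g ∈ Finset.univ.erase (1 : G), ∑ u : (ZMod n)ˣ, Complex.normSq (χ (g ^ (u : ZMod n).val)) := by
    have : ∑ _g ∈ Finset.univ.erase (1 : G), (Fintype.card (ZMod n)ˣ : ℝ)
        = (Fintype.card (ZMod n)ˣ : ℝ) * ((n : ℝ) - 1) := by
      rw [Finset.sum_const, Finset.card_erase_of_mem (Finset.mem_univ _), Finset.card_univ,
        ← Nat.card_eq_fintype_card, ← hn, nsmul_eq_mul, Nat.cast_sub hn0]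
      push_cast; ring
    rw [← this]
    exact Finset.sum_le_sum fun g _ => card_units_le_sum_normSq ρ g hcon
  rw [h1] at hA
  have hU : (0 : ℝ) < Fintype.card (ZMod n)ˣ := by exact_mod_cast Fintype.card_pos
  have hd : (2 : ℝ) ≤ finrank ℂ V := by exact_mod_cast hdeg
  have h3 : (Fintype.card (ZMod n)ˣ : ℝ) * ((finrank ℂ V : ℝ) * (finrank ℂ V : ℝ)) +
      (Fintype.card (ZMod n)ˣ : ℝ) * ((n : ℝ) - 1) ≤ (Fintype.card (ZMod n)ˣ : ℝ) * n := by
    rw [← hA]; linarith
  have h4 : (finrank ℂ V : ℝ) * (finrank ℂ V : ℝ) + ((n : ℝ) - 1) ≤ n := by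
    have : (Fintype.card (ZMod n)ˣ : ℝ) * ((finrank ℂ V : ℝ) * (finrank ℂ V : ℝ) + ((n : ℝ) - 1))
        ≤ (Fintype.card (ZMod n)ˣ : ℝ) * n := by rw [mul_add]; exact h3
    exact le_of_mul_le_mul_left this hU
  nlinarith

end Cfsg.Agent.CharLib.L
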