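import Mathlib
import Cfsg.Agent.CharLib.L.CenterIndex

/-! Ito's theorem: χ(1) divides [G : A] for an abelian normal subgroup A. -/

set_option autoImplicit false

namespace Cfsg.Agent.CharLib.L

open Module Cfsg Cfsg.Agent.CharLib

variable {G : Type*} [Group G] [Finite G]
variable {V : Type*} [AddCommGroup V] [Module ℂ V] [FiniteDimensional ℂ V]

/-- a common eigenvector for an abelian subgroup -/
theorem exists_common_eigenvector [Nontrivial V] (ρ : Representation ℂ G V) (A : Subgroup G)
    (hA : ∀ a ∈ A, ∀ b ∈ A, a * b = b * a) :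
    ∃ (L : G → ℂ) (v : V), v ≠ 0 ∧ ∀ a ∈ A, ρ a v = L a • v := by
  classical
  let ρA : Representation ℂ A V := ρ.comp A.subtype
  obtain ⟨U, hU⟩ := exists_isAtom ρA
  haveI := isIrreducible_of_isAtom hU
  haveI : IsMulCommutative A := ⟨⟨fun a b => Subtype.ext (hA a a.2 b b.2)⟩⟩
  have h1 : finrank ℂ U.toSubmodule = 1 :=
    Representation.IsIrreducible.finrank_eq_one_of_isMulCommutative U.toRepresentation
  obtain ⟨v, hv, hspan⟩ := finrank_eq_one_iff'.mp h1
  have hex : ∀ a : G, ∃ c : ℂ, a ∈ A → ρ a v = c • (v : V) := by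
    intro a
    by_cases ha : a ∈ A
    · obtain ⟨c, hc⟩ := hspan (U.toRepresentation ⟨a, ha⟩ v)
      refine ⟨c, fun _ => ?_⟩
      have := congrArg Subtype.val hc
      exact this.symm
    · exact ⟨0, fun h => absurd h ha⟩
  choose L hL using hex
  exact ⟨L, v, fun h => hv (Subtype.ext h), fun a ha => hL a ha⟩

theorem finrank_dvd_index_of_normal_comm (ρ : Representation ℂ G V) [hirr : ρ.IsIrreducible]
    (A : Subgroup G) [hAn : A.Normal] (hA : ∀ a ∈ A, ∀ b ∈ A, a * b = b * a) :
    finrank ℂ V ∣ A.index := by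
  classical
  have hpos := finrank_pos_of_irreducible ρ
  haveI : Nontrivial V := Module.nontrivial_of_finrank_pos (R := ℂ) hpos
  obtain ⟨L, v0, hv0, hLv⟩ := exists_common_eigenvector ρ A hA
  -- the weight space
  let W : Submodule ℂ V :=
    { carrier := {v | ∀ a ∈ A, ρ a v = L a • v}
      add_mem' := by
        intro x y hx hy a ha
        rw [map_add, hx a ha, hy a ha, smul_add]
      zero_mem' := by intro a _; simp
      smul_mem' := by
        intro c x hx a ha
        rw [map_smul, hx a ha, smul_comm] }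
  have hWmem : ∀ v, v ∈ W ↔ ∀ a ∈ A, ρ a v = L a • v := fun v => Iff.rfl
  -- the inertia group
  let T : Subgroup G :=
    { carrier := {g | ∀ a ∈ A, L (g⁻¹ * a * g) = L a}
      one_mem' := by intro a _; simp
      mul_mem' := by
        intro g h hg hh a ha
        have h1 : (g * h)⁻¹ * a * (g * h) = h⁻¹ * (g⁻¹ * a * g) * h := by group
        have h2 : g⁻¹ * a * g ∈ A := by
          have := hAn.conj_mem a ha g⁻¹
          simpa using this
        rw [h1, hh _ h2, hg a ha]
      inv_mem' := by
        intro g hg a ha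
        have h2 : g * a * g⁻¹ ∈ A := hAn.conj_mem a ha g
        have := hg _ h2
        have h3 : g⁻¹ * (g * a * g⁻¹) * g = a := by group
        rw [h3] at this
        simpa using this.symm }
  have hTmem : ∀ g, g ∈ T ↔ ∀ a ∈ A, L (g⁻¹ * a * g) = L a := fun g => Iff.rfl
  have hAT : A ≤ T := by
    intro b hb a ha
    have : b⁻¹ * a * b = a := by
      rw [mul_assoc, hA a ha b hb, ← mul_assoc, inv_mul_cancel, one_mul]
    rw [this]
  -- action of g on weight vectors
  have hact : ∀ (g : G) (v : V), v ∈ W → ∀ a ∈ A, ρ a (ρ g v) = L (g⁻¹ * a * g) • ρ g v := by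
    intro g v hv a ha
    have h2 : g⁻¹ * a * g ∈ A := by
      have := hAn.conj_mem a ha g⁻¹
      simpa using this
    have h3 : a * g = g * (g⁻¹ * a * g) := by group
    rw [← Module.End.mul_apply, ← map_mul, h3, map_mul, Module.End.mul_apply, hv _ h2, map_smul]
  have hTW : ∀ t ∈ T, ∀ v ∈ W, ρ t v ∈ W := by
    intro t ht v hv a ha
    rw [hact t v hv a ha, ht a ha]
  -- representation of T on W
  let ρW : Representation ℂ T W :=
    { toFun := fun t => (ρ t).restrict (fun v hv => hTW t t.2 v hv)
      map_one' := by ext v; simp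
      map_mul' := by intro s t; ext v; simp }
  have hρW : ∀ (t : T) (w : W), ((ρW t w : W) : V) = ρ t w := fun t w => rfl
  haveI : Nontrivial W := ⟨⟨⟨v0, hLv⟩, 0, fun h => hv0 (congrArg Subtype.val h)⟩⟩
  obtain ⟨U', hU'⟩ := exists_isAtom ρW
  haveI hσ := isIrreducible_of_isAtom hU'
  set σ := U'.toRepresentation with hσdef
  let U : Submodule ℂ V := U'.toSubmodule.map W.subtype
  have hUfr : finrank ℂ U = finrank ℂ U'.toSubmodule :=
    (Submodule.equivMapOfInjective W.subtype W.injective_subtype U'.toSubmodule).finrank_eq.symm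
  have hUW : U ≤ W := by
    intro x hx
    obtain ⟨w, _, rfl⟩ := Submodule.mem_map.mp hx
    exact w.2
  have hUT : ∀ t ∈ T, ∀ u ∈ U, ρ t u ∈ U := by
    intro t ht u hu
    obtain ⟨w, hw, rfl⟩ := Submodule.mem_map.mp hu
    exact Submodule.mem_map.mpr ⟨ρW ⟨t, ht⟩ w, U'.apply_mem_toSubmodule _ hw, rfl⟩
  have hUne : U ≠ ⊥ := by
    intro h
    have h1 : finrank ℂ U = 0 := by rw [h]; simp
    have h2 := finrank_pos_of_irreducible σ
    omega
  -- degree of σ divides [T : A]
  have hdvd : finrank ℂ U'.toSubmodule ∣ (A.subgroupOf T).index := by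
    refine finrank_dvd_index_of_scalar σ (A.subgroupOf T) fun h hh => ⟨L h, ?_⟩
    ext u
    have hu : ((u : W) : V) ∈ W := (u : W).2
    have := hu (h : G) (Subgroup.mem_subgroupOf.mp hh)
    have h2 : (((σ h u : U'.toSubmodule) : W) : V) = ρ (h : G) ((u : W) : V) := rfl
    simp only [LinearMap.smul_apply, Module.End.one_apply, Submodule.coe_smul]
    rw [h2, this]
  -- the translates of U
  let X : G ⧸ T → Submodule ℂ V := fun q => U.map (ρ q.out)
  have hinjρ : ∀ g : G, Function.Injective (ρ g) := by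
    intro g x y hxy
    have := congrArg (ρ g⁻¹) hxy
    simpa [← Module.End.mul_apply, ← map_mul] using this
  have hXfr : ∀ q, finrank ℂ (X q) = finrank ℂ U := by
    intro q
    exact (Submodule.equivMapOfInjective (ρ q.out) (hinjρ _) U).finrank_eq.symm
  -- sum is everything
  have hXtop : ⨆ q, X q = ⊤ := by
    have hinv : ∀ g, ∀ v ∈ ⨆ q, X q, ρ g v ∈ ⨆ q, X q := by
      intro g v hv
      have h1 : ρ g v ∈ (⨆ q, X q).map (ρ g) := Submodule.mem_map_of_mem hv
      rw [Submodule.map_iSup] at h1
      have hle : ⨆ q, (X q).map (ρ g) ≤ ⨆ q, X q := by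
        refine iSup_le fun q => ?_
        refine le_trans ?_ (le_iSup X (QuotientGroup.mk (g * q.out)))
        intro x hx
        obtain ⟨y, hy, rfl⟩ := Submodule.mem_map.mp hx
        obtain ⟨u, hu, rfl⟩ := Submodule.mem_map.mp hy
        set q' : G ⧸ T := QuotientGroup.mk (g * q.out) with hq'
        have ht : q'.out⁻¹ * (g * q.out) ∈ T := by
          rw [← QuotientGroup.eq, QuotientGroup.out_eq']
        refine Submodule.mem_map.mpr ⟨ρ (q'.out⁻¹ * (g * q.out)) u, hUT _ ht u hu, ?_⟩
        rw [← Module.End.mul_apply, ← map_mul, ← Module.End.mul_apply, ← map_mul]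
        congr 2
        group
      exact hle h1
    rcases ((isIrreducible_iff ρ).mp hirr).2 _ hinv with h | h
    · exfalso
      apply hUne
      rw [eq_bot_iff]
      intro u hu
      have h1 : ρ (QuotientGroup.mk 1 : G ⧸ T).out u ∈ ⨆ q, X q :=
        (le_iSup X (QuotientGroup.mk 1)) (Submodule.mem_map_of_mem hu)
      rw [h, Submodule.mem_bot] at h1
      rw [Submodule.mem_bot]
      exact hinjρ _ (by rw [h1, map_zero])
    · exact h
  -- independence
  let wt : G ⧸ T → (A → ℂ) := fun q a => L (q.out⁻¹ * a * q.out)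
  have hwtinj : Function.Injective wt := by
    intro q q' h
    rw [← QuotientGroup.out_eq' q, ← QuotientGroup.out_eq' q', QuotientGroup.eq]
    intro a ha
    have hb : q.out * a * q.out⁻¹ ∈ A := hAn.conj_mem a ha _
    have h1 := congrFun h ⟨_, hb⟩
    simp only [wt] at h1
    have h2 : q.out⁻¹ * (q.out * a * q.out⁻¹) * q.out = a := by group
    have h3 : (q.out⁻¹ * q'.out)⁻¹ * a * (q.out⁻¹ * q'.out) = q'.out⁻¹ * (q.out * a * q.out⁻¹) * q'.out := by
      group
    rw [h3, ← h1, h2]
  have hind : iSupIndep X := by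
    have h0 := Module.End.independent_iInf_maxGenEigenspace_of_forall_mapsTo
      (fun a : A => ρ (a : G)) (by
        intro a b φ
        apply Module.End.mapsTo_maxGenEigenspace_of_comm
        change ρ (b : G) * ρ (a : G) = ρ (a : G) * ρ (b : G)
        rw [← map_mul, ← map_mul, hA b b.2 a a.2])
    refine (h0.comp hwtinj).mono ?_
    intro q x hx
    obtain ⟨u, hu, rfl⟩ := Submodule.mem_map.mp hx
    simp only [Function.comp, Submodule.mem_iInf]
    intro a
    apply Module.End.eigenspace_le_maxGenEigenspace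
    rw [Module.End.mem_eigenspace_iff]
    exact hact q.out u (hUW hu) a a.2
  have hint := DirectSum.isInternal_submodule_of_iSupIndep_of_iSup_eq_top hind hXtop
  haveI := Fintype.ofFinite (G ⧸ T)
  have hfr : finrank ℂ V = T.index * finrank ℂ U := by
    have e := LinearEquiv.ofBijective (DirectSum.coeLinearMap X) hint
    rw [← e.finrank_eq, Module.finrank_directSum]
    simp only [hXfr, Finset.sum_const, Finset.card_univ, smul_eq_mul]
    rw [Subgroup.index, Nat.card_eq_fintype_card]
  rw [hfr, hUfr, ← Subgroup.relIndex_mul_index hAT, mul_comm]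
  exact Nat.mul_dvd_mul_right hdvd _

end Cfsg.Agent.CharLib.L
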